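import Groth.Agent.Grpsch.AffGrpd
import Mathlib.RingTheory.Flat.Basic
import Mathlib.RingTheory.TensorProduct.Finite
import Mathlib.RingTheory.Noetherian.Basic
import Mathlib.RingTheory.FiniteType
import Mathlib.LinearAlgebra.TensorProduct.RightExactness

/-!
# Local finiteness of the regular comodule of a flat affine groupoid over a Noetherian ring

`exists_frame` : `G : RGrpd A Γ`, `A` Noetherian, `s` flat; every finite subset of `Γ` is contained in the `s(A)`-span of
finitely many `x j` with `comp α β (x j) = ∑ k, α (x k) * β (c k j)` for all composable points `α`, `β`.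
-/

set_option autoImplicit false
universe u

open TensorProduct

namespace Groth.Agent.ResProp.EF.K270

open Groth.Agent.Grpsch.AffGrpd

namespace LF

variable {A Γ : Type u} [CommRing A] [CommRing Γ] (G : RGrpd A Γ)

/-- `Γ` over `A` by the source -/
def Ls (_ : RGrpd A Γ) : Type u := Γ
/-- `Γ` over `A` by the target -/
def Lt (_ : RGrpd A Γ) : Type u := Γ

instance : CommRing (Ls G) := inferInstanceAs (CommRing Γ)
instance : CommRing (Lt G) := inferInstanceAs (CommRing Γ)
instance : Algebra A (Ls G) := (show A →+* Ls G from G.s).toAlgebra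
instance : Algebra A (Lt G) := (show A →+* Lt G from G.t).toAlgebra

/-- composable pairs `(α, β)` -/
abbrev P : Type u := Ls G ⊗[A] Lt G

/-- the first arrow -/
def al : Γ →+* P G := (Algebra.TensorProduct.includeLeft : Ls G →ₐ[A] P G).toRingHom
/-- the second arrow -/
def be : Γ →+* P G := (Algebra.TensorProduct.includeRight : Lt G →ₐ[A] P G).toRingHom

theorem al_apply (g : Γ) : al G g = (show Ls G from g) ⊗ₜ[A] (1 : Lt G) := rfl
theorem be_apply (g : Γ) : be G g = (1 : Ls G) ⊗ₜ[A] (show Lt G from g) := rfl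

theorem al_be : (al G).comp G.s = (be G).comp G.t := by
  ext a
  change (algebraMap A (Ls G) a) ⊗ₜ[A] (1 : Lt G) = (1 : Ls G) ⊗ₜ[A] (algebraMap A (Lt G) a)
  rw [Algebra.algebraMap_eq_smul_one, Algebra.algebraMap_eq_smul_one, TensorProduct.smul_tmul]

/-- the universal property -/
def lift {T : Type*} [CommRing T] (α β : Γ →+* T) (h : α.comp G.s = β.comp G.t) : P G →+* T :=
  letI : Algebra A T := (α.comp G.s).toAlgebra
  (Algebra.TensorProduct.lift (A := Ls G) (B := Lt G) (C := T) (R := A) (S := A)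
    ({ (show Ls G →+* T from α) with commutes' := fun _ => rfl } : Ls G →ₐ[A] T)
    ({ (show Lt G →+* T from β) with commutes' := fun a => (DFunLike.congr_fun h a).symm } : Lt G →ₐ[A] T)
    (fun _ _ => Commute.all _ _)).toRingHom

theorem lift_tmul {T : Type*} [CommRing T] (α β : Γ →+* T) (h : α.comp G.s = β.comp G.t) (x : Ls G) (y : Lt G) :
    lift G α β h (x ⊗ₜ y) = α x * β y := rfl

theorem lift_al {T : Type*} [CommRing T] (α β : Γ →+* T) (h : α.comp G.s = β.comp G.t) :
    (lift G α β h).comp (al G) = α := by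
  ext g
  change lift G α β h ((show Ls G from g) ⊗ₜ (1 : Lt G)) = _
  rw [lift_tmul]
  exact (congrArg (α g * ·) (map_one β)).trans (mul_one _)

theorem lift_be {T : Type*} [CommRing T] (α β : Γ →+* T) (h : α.comp G.s = β.comp G.t) :
    (lift G α β h).comp (be G) = β := by
  ext g
  change lift G α β h ((1 : Ls G) ⊗ₜ (show Lt G from g)) = _
  rw [lift_tmul]
  exact (congrArg (· * β g) (map_one α)).trans (one_mul _)

/-- the comultiplication -/
def Δ : Γ →+* P G := G.comp (al G) (be G) (al_be G)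

theorem Δ_s : (Δ G).comp G.s = (be G).comp G.s := G.comp_s _ _ _

theorem comp_eq {T : Type u} [CommRing T] (α β : Γ →+* T) (h : α.comp G.s = β.comp G.t) :
    G.comp α β h = (lift G α β h).comp (Δ G) := by
  rw [Δ, G.comp_nat]
  congr 1
  · exact (lift_al G α β h).symm
  · exact (lift_be G α β h).symm

/-- `P` over `A` by the source of the second arrow -/
def P2 : Type u := Ls G ⊗[A] Lt G
instance : CommRing (P2 G) := inferInstanceAs (CommRing (P G))
instance : Algebra A (P2 G) := (show A →+* P2 G from (be G).comp G.s).toAlgebra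

/-- the identity `P → P2` -/
def toP2 (z : P G) : P2 G := z

/-- `Δ` is linear from the source structure to the source structure -/
def Δₗ : Ls G →ₐ[A] P2 G :=
  { (show Ls G →+* P2 G from Δ G) with commutes' := fun a => DFunLike.congr_fun (Δ_s G) a }

variable (N : Submodule A (Ls G))

/-- the image of `N ⊗ Γ`, as a set of elements of `P` stable under `1 ⊗ Γ` -/
def Rg : AddSubgroup (P G) := (LinearMap.range (N.subtype.rTensor (Lt G))).toAddSubgroup

theorem tmul_mem {x : Ls G} (hx : x ∈ N) (y : Lt G) : (x ⊗ₜ[A] y : P G) ∈ Rg G N :=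
  ⟨(⟨x, hx⟩ : N) ⊗ₜ y, rfl⟩

theorem Rg_induction {p : P G → Prop} (h0 : p 0) (h1 : ∀ x ∈ N, ∀ y : Lt G, p ((x : Ls G) ⊗ₜ[A] y))
    (h2 : ∀ a b, p a → p b → p (a + b)) {z : P G} (hz : z ∈ Rg G N) : p z := by
  obtain ⟨w, rfl⟩ := hz
  induction w with
  | zero => rw [map_zero]; exact h0
  | tmul x y => exact h1 x.1 x.2 y
  | add a b ha hb => rw [map_add]; exact h2 _ _ ha hb

theorem be_mul_mem (b : Γ) {z : P G} (hz : z ∈ Rg G N) : be G b * z ∈ Rg G N := by
  refine Rg_induction G N (p := fun z => be G b * z ∈ Rg G N) ?_ ?_ ?_ hz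
  · rw [mul_zero]; exact (Rg G N).zero_mem
  · intro x hx y
    change ((1 : Ls G) ⊗ₜ[A] (show Lt G from b) : P G) * (x ⊗ₜ[A] y) ∈ _
    rw [Algebra.TensorProduct.tmul_mul_tmul, one_mul]
    exact tmul_mem G N hx _
  · intro a c ha hc
    rw [mul_add]; exact (Rg G N).add_mem ha hc

/-- the image of `N ⊗ Γ` as a submodule for the source structure -/
def Rg2 : Submodule A (P2 G) where
  carrier := {z | (show P G from z) ∈ Rg G N}
  add_mem' ha hb := (Rg G N).add_mem ha hb
  zero_mem' := (Rg G N).zero_mem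
  smul_mem' a z hz := by
    rw [Algebra.smul_def]
    exact be_mul_mem G N (G.s a) hz

/-- the largest subcomodule contained in `N` -/
def core : Submodule A (Ls G) := (Rg2 G N).comap (Δₗ G).toLinearMap

theorem mem_core {f : Ls G} : f ∈ core G N ↔ Δ G f ∈ Rg G N := Iff.rfl

theorem comp_congr {T : Type u} [CommRing T] {α α' β β' : Γ →+* T} (h : α.comp G.s = β.comp G.t)
    (h' : α'.comp G.s = β'.comp G.t) (ha : α = α') (hb : β = β') : G.comp α β h = G.comp α' β' h' := by
  subst ha hb; rfl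

theorem i_i : G.i.comp G.i = RingHom.id Γ := by
  have h1 := G.comp_i (RingHom.id Γ)
  have h2 := G.comp_i G.i
  have ha := G.assoc (RingHom.id Γ) G.i (G.i.comp G.i) (by rw [RingHom.id_comp, G.i_t])
    (by rw [RingHom.comp_assoc, G.i_t])
  have e1 : G.comp (RingHom.id Γ) (G.comp G.i (G.i.comp G.i) (by rw [RingHom.comp_assoc, G.i_t]))
      (by rw [RingHom.id_comp, G.comp_t, G.i_t]) = RingHom.id Γ := by
    refine (comp_congr G _ (by rw [RingHom.comp_assoc, G.e_t, RingHom.comp_id]) rfl ?_).trans (G.comp_e (RingHom.id Γ))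
    rw [h2, G.i_t, RingHom.id_comp]
  have e2 : G.comp (G.comp (RingHom.id Γ) G.i (by rw [RingHom.id_comp, G.i_t])) (G.i.comp G.i)
      (by rw [G.comp_s, RingHom.comp_assoc, G.i_t]) = G.i.comp G.i := by
    refine (comp_congr G _ (by rw [RingHom.comp_assoc, G.e_s, RingHom.comp_id]) ?_ rfl).trans (G.e_comp (G.i.comp G.i))
    refine (comp_congr G _ _ rfl (RingHom.id_comp G.i).symm).trans (h1.trans ?_)
    rw [RingHom.id_comp, RingHom.comp_assoc G.t G.i G.i, G.i_t, G.i_s]
  exact e2.symm.trans (ha.trans e1)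

/-- `Γ` is flat over `A` by the target -/
theorem flat_t (hs : G.s.Flat) : Module.Flat A (Lt G) := by
  have h1 : Module.Flat A (Ls G) := hs
  have hi : ∀ g, G.i (G.i g) = g := fun g => DFunLike.congr_fun (i_i G) g
  let E : Ls G ≃ₗ[A] Lt G :=
    { toFun := fun g => (G.i g : Γ)
      invFun := fun g => (G.i g : Γ)
      left_inv := fun g => hi g
      right_inv := fun g => hi g
      map_add' := fun a b => map_add G.i _ _
      map_smul' := fun a g => by
        change G.i (G.s a * (show Γ from g)) = G.t a * G.i g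
        rw [map_mul]
        congr 1
        exact DFunLike.congr_fun G.i_s a }
  exact Module.Flat.of_linearEquiv E.symm

theorem core_le : core G N ≤ N := by
  intro f hf
  rw [mem_core] at hf
  -- evaluate at `(id, unit)`
  have key : ∀ z ∈ Rg G N, (lift G (RingHom.id Γ) (G.s.comp G.e) (by rw [RingHom.comp_assoc, G.e_t]; rfl) z : Ls G) ∈ N := by
    intro z hz
    refine Rg_induction G N (p := fun z => (lift G (RingHom.id Γ) (G.s.comp G.e) _ z : Ls G) ∈ N) ?_ ?_ ?_ hz
    · rw [map_zero]; exact N.zero_mem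
    · intro x hx y
      rw [lift_tmul]
      have := N.smul_mem (G.e y) hx
      rw [Algebra.smul_def, mul_comm] at this
      exact this
    · intro a b ha hb
      rw [map_add]; exact N.add_mem ha hb
  have := key _ hf
  have h2 := DFunLike.congr_fun (comp_eq G (RingHom.id Γ) (G.s.comp G.e) (by rw [RingHom.comp_assoc, G.e_t]; rfl)) f
  have h3 := DFunLike.congr_fun (G.comp_e (RingHom.id Γ)) f
  have h4 : f = lift G (RingHom.id Γ) (G.s.comp G.e) (by rw [RingHom.comp_assoc, G.e_t]; rfl) (Δ G f) := h3.symm.trans h2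
  rw [h4]
  exact this

/-- the triple products -/
abbrev P3 : Type u := P2 G ⊗[A] Lt G

/-- first arrow of three -/
def a3 : Γ →+* P3 G := (Algebra.TensorProduct.includeLeft : P2 G →ₐ[A] P3 G).toRingHom.comp (show Γ →+* P2 G from al G)
/-- second arrow of three -/
def b3 : Γ →+* P3 G := (Algebra.TensorProduct.includeLeft : P2 G →ₐ[A] P3 G).toRingHom.comp (show Γ →+* P2 G from be G)
/-- third arrow of three -/
def c3 : Γ →+* P3 G := (Algebra.TensorProduct.includeRight : Lt G →ₐ[A] P3 G).toRingHom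

theorem a3b3 : (a3 G).comp G.s = (b3 G).comp G.t := by
  rw [a3, b3, RingHom.comp_assoc, RingHom.comp_assoc]
  exact congrArg _ (al_be G)

theorem b3c3 : (b3 G).comp G.s = (c3 G).comp G.t := by
  ext a
  change (algebraMap A (P2 G) a) ⊗ₜ[A] (1 : Lt G) = (1 : P2 G) ⊗ₜ[A] (algebraMap A (Lt G) a)
  rw [Algebra.algebraMap_eq_smul_one, Algebra.algebraMap_eq_smul_one, TensorProduct.smul_tmul]

/-- `Δ ⊗ 1` -/
def D1 : P G →+* P3 G := (Algebra.TensorProduct.map (Δₗ G) (AlgHom.id A (Lt G)) : P G →ₐ[A] P3 G).toRingHom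

theorem D1_al : (D1 G).comp (al G) = G.comp (a3 G) (b3 G) (a3b3 G) := by
  have : (D1 G).comp (al G) = ((Algebra.TensorProduct.includeLeft : P2 G →ₐ[A] P3 G).toRingHom).comp
      (show Γ →+* P2 G from Δ G) := by
    ext g
    change (Δₗ G g) ⊗ₜ[A] ((AlgHom.id A (Lt G)) 1) = _
    rw [map_one]
    rfl
  rw [this]
  exact G.comp_nat _ _ _ (al_be G)

theorem D1_be : (D1 G).comp (be G) = c3 G := by
  ext g
  change (Δₗ G 1) ⊗ₜ[A] ((AlgHom.id A (Lt G)) g) = _
  rw [map_one]
  rfl

theorem coassoc : (D1 G).comp (Δ G) =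
    (lift G (a3 G) (G.comp (b3 G) (c3 G) (b3c3 G)) ((a3b3 G).trans (G.comp_t _ _ _).symm)).comp (Δ G) := by
  rw [← comp_eq, ← G.assoc (a3 G) (b3 G) (c3 G) (a3b3 G) (b3c3 G)]
  conv_lhs => rw [Δ, G.comp_nat]
  exact comp_congr G _ _ (D1_al G) (D1_be G)

theorem D1_mem {z : P G} (hz : z ∈ Rg G N) :
    lift G (a3 G) (G.comp (b3 G) (c3 G) (b3c3 G)) ((a3b3 G).trans (G.comp_t _ _ _).symm) z ∈
      LinearMap.range ((Rg2 G N).subtype.rTensor (Lt G)) := by
  refine Rg_induction G N (p := fun z => lift G (a3 G) (G.comp (b3 G) (c3 G) (b3c3 G)) _ z ∈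
    LinearMap.range ((Rg2 G N).subtype.rTensor (Lt G))) ?_ ?_ ?_ hz
  · rw [map_zero]; exact Submodule.zero_mem _
  · intro x hx y
    rw [lift_tmul, comp_eq]
    change a3 G x * lift G (b3 G) (c3 G) (b3c3 G) (Δ G y) ∈ _
    obtain ⟨w, hw⟩ : ∃ w : Ls G ⊗[A] Lt G, w = Δ G y := ⟨_, rfl⟩
    rw [← hw]
    clear hw
    induction w using TensorProduct.induction_on with
    | zero => rw [map_zero, mul_zero]; exact Submodule.zero_mem _
    | add u v hu hv => rw [map_add, mul_add]; exact Submodule.add_mem _ hu hv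
    | tmul u v =>
      rw [lift_tmul]
      refine ⟨(⟨(x ⊗ₜ[A] (show Lt G from u) : P G), tmul_mem G N hx _⟩ : Rg2 G N) ⊗ₜ[A] v, ?_⟩
      rw [LinearMap.rTensor_tmul]
      have h0 : ∀ p q : P2 G, ∀ v : Lt G,
          ((p ⊗ₜ[A] (1 : Lt G) : P3 G) * ((q ⊗ₜ[A] (1 : Lt G) : P3 G) * ((1 : P2 G) ⊗ₜ[A] v : P3 G))) = (p * q) ⊗ₜ[A] v := by
        intro p q v
        rw [Algebra.TensorProduct.tmul_mul_tmul, Algebra.TensorProduct.tmul_mul_tmul, mul_one, one_mul, one_mul]
      refine Eq.trans ?_ (h0 (toP2 G (x ⊗ₜ[A] (1 : Lt G))) (toP2 G ((1 : Ls G) ⊗ₜ[A] (show Lt G from u))) v).symm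
      refine congrArg (fun z : P2 G => z ⊗ₜ[A] v) ?_
      change (x ⊗ₜ[A] (show Lt G from u) : P G) = (x ⊗ₜ[A] (1 : Lt G) : P G) * ((1 : Ls G) ⊗ₜ[A] (show Lt G from u) : P G)
      rw [Algebra.TensorProduct.tmul_mul_tmul, mul_one, one_mul]
  · intro a b ha hb
    rw [map_add]; exact Submodule.add_mem _ ha hb

/-- the core is a subcomodule -/
theorem core_sub (hs : G.s.Flat) {f : Ls G} (hf : f ∈ core G N) : Δ G f ∈ Rg G (core G N) := by
  have := flat_t G hs
  have hex : Function.Exact (core G N).subtype ((Rg2 G N).mkQ.comp (Δₗ G).toLinearMap) := by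
    rw [LinearMap.exact_iff, LinearMap.ker_comp, Submodule.ker_mkQ, Submodule.range_subtype]
    rfl
  have h2 := Module.Flat.rTensor_exact (Lt G) hex
  have h3 : (((Rg2 G N).mkQ.comp (Δₗ G).toLinearMap).rTensor (Lt G)) (Δ G f) = 0 := by
    rw [LinearMap.rTensor_comp, LinearMap.comp_apply]
    have h4 : ((Δₗ G).toLinearMap.rTensor (Lt G)) (Δ G f) = D1 G (Δ G f) := rfl
    rw [h4]
    have h5 := D1_mem G N ((mem_core G N).1 hf)
    have h6 : D1 G (Δ G f) = lift G (a3 G) (G.comp (b3 G) (c3 G) (b3c3 G)) ((a3b3 G).trans (G.comp_t _ _ _).symm) (Δ G f) :=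
      DFunLike.congr_fun (coassoc G) f
    rw [h6]
    obtain ⟨w, hw⟩ := h5
    rw [← hw, ← LinearMap.comp_apply, ← LinearMap.rTensor_comp]
    have : (Rg2 G N).mkQ.comp (Rg2 G N).subtype = 0 := by
      ext x; simp
    rw [this, LinearMap.rTensor_zero, LinearMap.zero_apply]
  exact (h2 _).1 h3

end LF

open LF

/-- **local finiteness** -/
theorem exists_frame {A Γ : Type u} [CommRing A] [CommRing Γ] (G : RGrpd A Γ) [IsNoetherianRing A] (hs : G.s.Flat)
    (F : Finset Γ) : ∃ (n : ℕ) (x : Fin n → Γ) (c : Fin n → Fin n → Γ),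
      (∀ f ∈ F, ∃ a : Fin n → A, f = ∑ j, G.s (a j) * x j) ∧
      ∀ {T : Type u} [CommRing T] (α β : Γ →+* T) (h : α.comp G.s = β.comp G.t) (j : Fin n),
        G.comp α β h (x j) = ∑ k, α (x k) * β (c k j) := by
  classical
  -- a finitely generated `N` with `F ⊆ core N`
  have hN : ∃ N : Submodule A (Ls G), N.FG ∧ ∀ f ∈ F, (show Ls G from f) ∈ core G N := by
    have h1 : ∀ f : Γ, ∃ N : Submodule A (Ls G), N.FG ∧ (show Ls G from f) ∈ core G N := by
      intro f
      have : ∀ w : Ls G ⊗[A] Lt G, ∃ N : Submodule A (Ls G), N.FG ∧ w ∈ Rg G N := by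
        intro w
        induction w using TensorProduct.induction_on with
        | zero => exact ⟨⊥, Submodule.fg_bot, (Rg G _).zero_mem⟩
        | tmul u v => exact ⟨Submodule.span A {u}, Submodule.fg_span_singleton u,
            tmul_mem G _ (Submodule.mem_span_singleton_self u) v⟩
        | add u v hu hv =>
          obtain ⟨N, hN, h⟩ := hu
          obtain ⟨N', hN', h'⟩ := hv
          refine ⟨N ⊔ N', hN.sup hN', (Rg G _).add_mem ?_ ?_⟩
          · exact Rg_induction G N (p := fun z => z ∈ Rg G (N ⊔ N')) (Rg G _).zero_mem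
              (fun x hx y => tmul_mem G _ (Submodule.mem_sup_left hx) y) (fun a b ha hb => (Rg G _).add_mem ha hb) h
          · exact Rg_induction G N' (p := fun z => z ∈ Rg G (N ⊔ N')) (Rg G _).zero_mem
              (fun x hx y => tmul_mem G _ (Submodule.mem_sup_right hx) y) (fun a b ha hb => (Rg G _).add_mem ha hb) h'
      exact this (Δ G f)
    have hmono : ∀ {N N' : Submodule A (Ls G)}, N ≤ N' → core G N ≤ core G N' := by
      intro N N' hNN' f hf
      exact Rg_induction G N (p := fun z => z ∈ Rg G N') (Rg G _).zero_mem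
        (fun x hx y => tmul_mem G _ (hNN' hx) y) (fun a b ha hb => (Rg G _).add_mem ha hb) hf
    induction F using Finset.induction_on with
    | empty => exact ⟨⊥, Submodule.fg_bot, by simp⟩
    | insert f F _ ih =>
      obtain ⟨N, hN, h⟩ := ih
      obtain ⟨N', hN', h'⟩ := h1 f
      refine ⟨N ⊔ N', hN.sup hN', fun g hg => ?_⟩
      rcases Finset.mem_insert.1 hg with rfl | hg
      · exact hmono le_sup_right h'
      · exact hmono le_sup_left (h g hg)
  obtain ⟨N, hNfg, hF⟩ := hN
  have : Module.Finite A N := Module.Finite.iff_fg.2 hNfg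
  have hc : (core G N).FG := by
    have h1 : IsNoetherian A N := inferInstance
    exact Submodule.FG.of_le hNfg (core_le G N)
  obtain ⟨n, x, hx⟩ := Submodule.fg_iff_exists_fin_generating_family.1 hc
  -- coefficients
  have hco : ∀ z ∈ Rg G (core G N), ∃ c : Fin n → Γ, z = ∑ k, (x k) ⊗ₜ[A] (show Lt G from c k) := by
    intro z hz
    refine Rg_induction G (core G N) (p := fun z => ∃ c : Fin n → Γ, z = ∑ k, (x k) ⊗ₜ[A] (show Lt G from c k))
      ⟨0, ?_⟩ ?_ ?_ hz
    · symm
      refine Finset.sum_eq_zero fun k _ => ?_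
      exact TensorProduct.tmul_zero _ _
    · intro w hw y
      rw [← hx] at hw
      obtain ⟨a, rfl⟩ := (Submodule.mem_span_range_iff_exists_fun A).1 hw
      refine ⟨fun k => (G.t (a k) * (show Γ from y) : Γ), ?_⟩
      rw [TensorProduct.sum_tmul]
      refine Finset.sum_congr rfl fun k _ => ?_
      rw [TensorProduct.smul_tmul]
      congr 1
    · rintro a b ⟨c, rfl⟩ ⟨c', rfl⟩
      refine ⟨fun k => c k + c' k, ?_⟩
      rw [← Finset.sum_add_distrib]
      refine Finset.sum_congr rfl fun k _ => ?_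
      exact (TensorProduct.tmul_add _ _ _).symm
  have hxm : ∀ j, x j ∈ core G N := fun j => hx ▸ Submodule.subset_span ⟨j, rfl⟩
  choose c hcc using fun j => hco _ (core_sub G N hs (hxm j))
  refine ⟨n, x, fun k j => c j k, ?_, ?_⟩
  · intro f hf
    have := hF f hf
    rw [← hx] at this
    obtain ⟨a, ha⟩ := (Submodule.mem_span_range_iff_exists_fun A).1 this
    exact ⟨a, ha.symm⟩
  · intro T _ α β h j
    rw [comp_eq]
    change lift G α β h (Δ G (x j)) = _
    rw [hcc j, map_sum]
    rfl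

/-- local finiteness, normalised: `x 0 = 1`, the `x j` generate `Γ` over `s(A)` -/
theorem exists_frame_one {A Γ : Type u} [CommRing A] [CommRing Γ] (G : RGrpd A Γ) [IsNoetherianRing A] (hs : G.s.Flat)
    (hft : G.s.FiniteType) (F : Finset Γ) : ∃ (n : ℕ) (x : Fin (n + 1) → Γ) (c : Fin (n + 1) → Fin (n + 1) → Γ),
      x 0 = 1 ∧ (∀ S : Subring Γ, (∀ a, G.s a ∈ S) → (∀ j, x j ∈ S) → S = ⊤) ∧
      Function.Surjective (MvPolynomial.eval₂Hom G.s x) ∧
      (∀ f ∈ F, ∃ a : Fin (n + 1) → A, f = ∑ j, G.s (a j) * x j) ∧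
      ∀ {T : Type u} [CommRing T] (α β : Γ →+* T) (h : α.comp G.s = β.comp G.t) (j : Fin (n + 1)),
        G.comp α β h (x j) = ∑ k, α (x k) * β (c k j) := by
  classical
  let _ : Algebra A Γ := G.s.toAlgebra
  obtain ⟨S, hS⟩ := (hft : Algebra.FiniteType A Γ).out
  obtain ⟨n, x, c, h1, h2⟩ := exists_frame G hs (insert 1 (S ∪ F))
  have hgen : ∀ S' : Subring Γ, (∀ a, G.s a ∈ S') → (∀ j, (Fin.cons 1 x : Fin (n + 1) → Γ) j ∈ S') → S' = ⊤ := by
    intro S' ha hj
    let SA : Subalgebra A Γ := { S' with algebraMap_mem' := ha }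
    have : Algebra.adjoin A (S : Set Γ) ≤ SA := by
      refine Algebra.adjoin_le fun f hf => ?_
      obtain ⟨a, rfl⟩ := h1 f (Finset.mem_insert_of_mem (Finset.mem_union_left _ hf))
      refine S'.sum_mem fun j _ => S'.mul_mem (ha _) ?_
      simpa using hj j.succ
    rw [hS] at this
    exact eq_top_iff.2 fun f _ => this (Algebra.mem_top : f ∈ (⊤ : Subalgebra A Γ))
  refine ⟨n, Fin.cons 1 x, Fin.cons (Fin.cons 1 0) fun k => Fin.cons 0 (c k), rfl, hgen, ?_, ?_, ?_⟩
  · have := hgen (MvPolynomial.eval₂Hom G.s (Fin.cons 1 x : Fin (n + 1) → Γ)).range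
      (fun a => ⟨MvPolynomial.C a, by simp⟩) (fun j => ⟨MvPolynomial.X j, by simp⟩)
    exact RingHom.range_eq_top.1 this
  · intro f hf
    obtain ⟨a, ha⟩ := h1 f (Finset.mem_insert_of_mem (Finset.mem_union_right _ hf))
    refine ⟨Fin.cons 0 a, ?_⟩
    rw [Fin.sum_univ_succ]
    simpa using ha
  · intro T _ α β h j
    refine Fin.cases ?_ (fun j => ?_) j
    · rw [Fin.sum_univ_succ]
      simp
    · rw [Fin.sum_univ_succ]
      simpa using h2 α β h j

end Groth.Agent.ResProp.EF.K270
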