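import Mathlib

/-!
# The monomorphism argument for frame bundles (412 N4, 743 (3)-(4)), in rings

`s t : R →ₐ[k] Γ` source and target, `e : Γ →ₐ[k] R` the unit section.  `M`, `N` are (sub)comodules of `Γ` (through `iM`, `iN`),
`mult : M^m → N` the multiplication.  A point `P : FPt ..` of the frame scheme with values in `B` is `x : R → B` with frames
`q : M → B^r`, `q' : N → B^n` such that `B_x = Γ ⊗_(s,x) B` is `B[X_1..X_r]/(q(1) - 1, ker μ)`.  If two points have the same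
`θ = (q(1), μ, q'(t a_i), (q ⊗ q')(ε_i))`, then they differ by a unique arrow `γ : Γ → B`.
-/

set_option autoImplicit false

namespace Groth.Agent.ResProp.EF.K270

open MvPolynomial

universe u₀ u₁ u₂ u₃ u₄ u₅ u₆

/-- the ideal of relations attached to `u` and `μ` -/
noncomputable def Kid {B : Type u₅} [CommRing B] {r n m : ℕ} (u : Fin r → B) (μ : (Fin m → Fin r) → (Fin n → B)) :
    Ideal (MvPolynomial (Fin r) B) :=
  Ideal.span ({(∑ c, C (u c) * X c) - 1} ∪
    {f | ∃ l : (Fin m → Fin r) → B, (∑ c, l c • μ c = 0) ∧ f = ∑ c, C (l c) * ∏ i, X (c i)})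

section

variable {k : Type u₀} {R : Type u₁} {Γ : Type u₂} [CommRing k] [CommRing R] [CommRing Γ] [Algebra k R] [Algebra k Γ]
variable (s : R →ₐ[k] Γ) (e : Γ →ₐ[k] R)
variable {M : Type u₃} {N : Type u₄} [AddCommGroup M] [Module R M] [AddCommGroup N] [Module R N]
variable (iM : M →+ Γ) (iN : N →+ Γ) {m : ℕ} (mult : (Fin m → M) → N) (oneM : M)

/-- a `B`-valued point of the frame scheme -/
structure FPt (B : Type u₅) [CommRing B] [Algebra k B] (r n : ℕ) where
  x : R →ₐ[k] B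
  q : M →+ (Fin r → B)
  q_smul : ∀ (a : R) (v : M), q (a • v) = x a • q v
  q' : N →+ (Fin n → B)
  q'_smul : ∀ (a : R) (v : N), q' (a • v) = x a • q' v
  μ : (Fin m → Fin r) → (Fin n → B)
  q'_mult : ∀ a : Fin m → M, q' (mult a) = ∑ c : Fin m → Fin r, (∏ i, q (a i) (c i)) • μ c
  E : Type u₆
  [ring : CommRing E]
  [alg : Algebra B E]
  ι : Γ →+* E
  ι_s : ∀ a, ι (s a) = algebraMap B E (x a)
  aug : E →ₐ[B] B
  aug_ι : ∀ g, aug (ι g) = x (e g)
  w : (Fin r → B) →ₗ[B] E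
  w_q : ∀ v, w (q v) = ι (iM v)
  w' : (Fin n → B) →ₗ[B] E
  w'_q : ∀ v, w' (q' v) = ι (iN v)
  w_mul : ∀ c : Fin m → Fin r, ∏ i, w (Pi.single (c i) 1) = w' (μ c)
  surj : Function.Surjective (aeval (R := B) fun c => w (Pi.single c 1) : MvPolynomial (Fin r) B →ₐ[B] E)
  ker : RingHom.ker (aeval (R := B) fun c => w (Pi.single c 1) : MvPolynomial (Fin r) B →ₐ[B] E) ≤ Kid (q oneM) μ

attribute [instance] FPt.ring FPt.alg

variable {s e iM iN mult oneM}
variable {B : Type u₅} [CommRing B] [Algebra k B] {r n : ℕ}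

namespace FPt

variable (P P' : FPt.{u₀, u₁, u₂, u₃, u₄, u₅, u₆} s e iM iN mult oneM B r n)

/-- `w` in coordinates -/
theorem w_apply (b : Fin r → B) : P.w b = ∑ c, algebraMap B P.E (b c) * P.w (Pi.single c 1) := by
  conv_lhs => rw [← Finset.univ_sum_single b]
  rw [map_sum]
  refine Finset.sum_congr rfl fun c _ => ?_
  rw [← Algebra.smul_def, ← map_smul, ← Pi.single_smul, smul_eq_mul, mul_one]

/-- the relations of `(q(1), μ)` hold in `E` -/
theorem kid_le (h1 : iM oneM = 1) :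
    Kid (P.q oneM) P.μ ≤ RingHom.ker (aeval (R := B) fun c => P.w (Pi.single c 1) : MvPolynomial (Fin r) B →ₐ[B] P.E) := by
  refine Ideal.span_le.2 ?_
  rintro f (hf | ⟨l, hl, rfl⟩)
  · rw [Set.mem_singleton_iff] at hf
    subst hf
    simp only [SetLike.mem_coe, RingHom.mem_ker, map_sub, map_sum, map_mul, aeval_X, map_one, algHom_C]
    rw [← w_apply, P.w_q, h1, map_one, sub_self]
  · simp only [SetLike.mem_coe, RingHom.mem_ker, map_sum, map_mul, map_prod, aeval_X, algHom_C]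
    have : ∀ c : Fin m → Fin r, algebraMap B P.E (l c) * ∏ i, P.w (Pi.single (c i) 1) = P.w' (l c • P.μ c) := by
      intro c
      rw [P.w_mul, map_smul, Algebra.smul_def]
    simp only [this]
    rw [← map_sum, hl, map_zero]

/-- the comparison `B_x → B_x'` -/
theorem exists_psi (h1 : iM oneM = 1) (hu : P.q oneM = P'.q oneM) (hμ : P.μ = P'.μ) :
    ∃ ψ : P.E →ₐ[B] P'.E, (∀ b, ψ (P.w b) = P'.w b) ∧ ∀ (v : N), (∃ (l : (Fin m → Fin r) → B), P.q' v = ∑ c, l c • P.μ c) →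
      ψ (P.w' (P.q' v)) = P'.w' (P.q' v) := by
  set φ : MvPolynomial (Fin r) B →ₐ[B] P.E := aeval fun c => P.w (Pi.single c 1) with hφ
  set φ' : MvPolynomial (Fin r) B →ₐ[B] P'.E := aeval fun c => P'.w (Pi.single c 1) with hφ'
  have hk : RingHom.ker φ ≤ RingHom.ker φ' := by
    refine P.ker.trans ?_
    rw [hu, hμ]
    exact P'.kid_le h1
  let ψ : P.E →ₐ[B] P'.E := AlgHom.liftOfSurjective φ P.surj φ' hk
  have hψ : ∀ f, ψ (φ f) = φ' f := fun f => by
    exact AlgHom.liftOfSurjective_apply _ _ _ _ _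
  have hw : ∀ b, ψ (P.w b) = P'.w b := by
    intro b
    have : P.w b = φ (∑ c, C (b c) * X c) := by
      rw [P.w_apply, map_sum]
      simp [hφ, algHom_C]
    rw [this, hψ, P'.w_apply, map_sum]
    simp [hφ', algHom_C]
  refine ⟨ψ, hw, ?_⟩
  rintro v ⟨l, hl⟩
  rw [hl, map_sum, map_sum, map_sum]
  refine Finset.sum_congr rfl fun c _ => ?_
  rw [map_smul, map_smul, map_smul]
  congr 1
  rw [← P.w_mul, map_prod]
  simp only [hw]
  rw [P'.w_mul, hμ]

/-- **existence of the arrow**: two points with the same `θ` differ by an arrow `γ`.  `τ` : elements of `N` with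
`iN (τ i) = t (a i)` for generators `a i` of `R` (hypothesis `ht`); `(v i, α i j, β i j)` : elements with
`v i = ∑ e(β) α` (the value at the unit of `v (h g⁻¹) = ∑ α(h) β(g)`). -/
theorem exists_arrow (h1 : iM oneM = 1)
    (hspan : ∀ v : N, v ∈ Submodule.span R (Set.range mult))
    (t : R →ₐ[k] Γ) (he : ∀ a, e (t a) = a)
    {I₁ : Type*} (a : I₁ → R) (ha : Algebra.adjoin k (Set.range a) = ⊤) (τ : I₁ → N) (hτ : ∀ i, iN (τ i) = t (a i))
    {I₂ : Type*} (v : I₂ → M) (J : I₂ → Type*) [∀ i, Fintype (J i)] (α : ∀ i, J i → M) (β : ∀ i, J i → N)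
    (hv : ∀ i, v i = ∑ j, e (iN (β i j)) • α i j)
    (hu : P.q oneM = P'.q oneM) (hμ : P.μ = P'.μ) (hq : ∀ i, P.q' (τ i) = P'.q' (τ i))
    (hε : ∀ i c d, ∑ j, P.q (α i j) c * P.q' (β i j) d = ∑ j, P'.q (α i j) c * P'.q' (β i j) d) :
    ∃ γ : Γ →ₐ[k] B, (∀ b, γ (s b) = P.x b) ∧ (∀ b, γ (t b) = P'.x b) ∧
      ∀ i, P'.q (v i) = ∑ j, γ (iN (β i j)) • P.q (α i j) := by
  obtain ⟨ψ, hψ, hψ'⟩ := P.exists_psi P' h1 hu hμ
  -- every `q' v` is a combination of the `μ c`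
  have hN : ∀ v : N, ∃ l : (Fin m → Fin r) → B, P.q' v = ∑ c, l c • P.μ c := by
    intro v
    induction hspan v using Submodule.span_induction with
    | mem v hv =>
      obtain ⟨a, rfl⟩ := hv
      exact ⟨_, P.q'_mult a⟩
    | zero => exact ⟨0, by simp⟩
    | add v w _ _ hv hw =>
      obtain ⟨l, hl⟩ := hv
      obtain ⟨l', hl'⟩ := hw
      refine ⟨l + l', ?_⟩
      rw [map_add, hl, hl', ← Finset.sum_add_distrib]
      simp [add_smul]
    | smul b v _ hv =>
      obtain ⟨l, hl⟩ := hv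
      refine ⟨fun c => P.x b * l c, ?_⟩
      rw [P.q'_smul, hl, Finset.smul_sum]
      simp [mul_smul]
  have hψN : ∀ v : N, ψ (P.w' (P.q' v)) = P'.w' (P.q' v) := fun v => hψ' v (hN v)
  let γ₀ : Γ →+* B := (P'.aug : P'.E →+* B).comp ((ψ : P.E →+* P'.E).comp P.ι)
  have hγ₀ : ∀ g, γ₀ g = P'.aug (ψ (P.ι g)) := fun g => rfl
  have hγs : ∀ b, γ₀ (s b) = P.x b := by
    intro b
    rw [hγ₀, P.ι_s, AlgHom.commutes, AlgHom.commutes]
    rfl
  let γ : Γ →ₐ[k] B := { γ₀ with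
    commutes' := fun c => by
      change γ₀ (algebraMap k Γ c) = algebraMap k B c
      rw [← AlgHom.commutes s, hγs, AlgHom.commutes] }
  have hγN : ∀ v : N, γ (iN v) = P'.aug (P'.w' (P.q' v)) := by
    intro v
    change γ₀ _ = _
    rw [hγ₀, ← P.w'_q, hψN]
  have hγt : ∀ b, γ (t b) = P'.x b := by
    have : γ.comp t = P'.x := by
      refine AlgHom.ext_of_adjoin_eq_top ha ?_
      rintro _ ⟨i, rfl⟩
      rw [AlgHom.comp_apply, ← hτ, hγN, hq, P'.w'_q, P'.aug_ι, hτ, he]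
    exact fun b => DFunLike.congr_fun this b
  refine ⟨γ, hγs, hγt, ?_⟩
  intro i
  -- the functional `ℓ = aug' w'`
  let ℓ : (Fin n → B) →ₗ[B] B := (P'.aug.toLinearMap).comp P'.w'
  have hℓ : ∀ b : Fin n → B, ℓ b = ∑ d, b d * ℓ (Pi.single d 1) := by
    intro b
    conv_lhs => rw [← Finset.univ_sum_single b]
    rw [map_sum]
    refine Finset.sum_congr rfl fun c _ => ?_
    rw [← smul_eq_mul, ← map_smul, ← Pi.single_smul, smul_eq_mul, mul_one]
  have hγℓ : ∀ v : N, γ (iN v) = ℓ (P.q' v) := hγN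
  have hℓ' : ∀ v : N, ℓ (P'.q' v) = P'.x (e (iN v)) := by
    intro v
    change P'.aug (P'.w' (P'.q' v)) = _
    rw [P'.w'_q, P'.aug_ι]
  rw [hv i, map_sum]
  funext c
  simp only [P'.q_smul, Finset.sum_apply, Pi.smul_apply, smul_eq_mul, hγℓ, ← hℓ']
  simp only [hℓ (P'.q' _), hℓ (P.q' _), Finset.sum_mul]
  rw [Finset.sum_comm, Finset.sum_comm (s := Finset.univ (α := J i))]
  refine Finset.sum_congr rfl fun d _ => ?_
  have := congrArg (fun z => ℓ (Pi.single d 1) * z) (hε i c d)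
  simp only [Finset.mul_sum] at this
  rw [Finset.sum_congr rfl (fun j _ => show P'.q' (β i j) d * ℓ (Pi.single d 1) * P'.q (α i j) c =
      ℓ (Pi.single d 1) * (P'.q (α i j) c * P'.q' (β i j) d) by ring), ← this]
  exact Finset.sum_congr rfl fun j _ => by ring

/-- **uniqueness of the arrow** -/
theorem arrow_unique (hgen : ∀ S : Subring Γ, (∀ a, s a ∈ S) → (∀ v, iM v ∈ S) → S = ⊤)
    {γ γ' : Γ →ₐ[k] B} (hs : ∀ b, γ (s b) = γ' (s b))
    (exp : ∀ v : M, ∃ (J : Type) (_ : Fintype J) (c : J → Γ) (w : J → M),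
      (γ (iM v) = ∑ j, γ (c j) * P'.x (e (iM (w j)))) ∧ (γ' (iM v) = ∑ j, γ' (c j) * P'.x (e (iM (w j)))) ∧
      ∑ j, γ (c j) • P'.q (w j) = ∑ j, γ' (c j) • P'.q (w j)) : γ = γ' := by
  have key : ∀ w : M, P'.x (e (iM w)) = P'.aug (P'.w (P'.q w)) := fun w => by rw [P'.w_q, P'.aug_ι]
  have h := hgen (RingHom.eqLocus (γ : Γ →+* B) (γ' : Γ →+* B)) (fun a => hs a) (fun v => by
    obtain ⟨J, _, c, w, h1, h2, h3⟩ := exp v
    change γ (iM v) = γ' (iM v)
    rw [h1, h2]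
    simp only [key]
    have := congrArg (fun z => P'.aug (P'.w z)) h3
    simpa only [map_sum, map_smul, smul_eq_mul] using this)
  ext g
  have : g ∈ RingHom.eqLocus (γ : Γ →+* B) (γ' : Γ →+* B) := h ▸ Subring.mem_top g
  exact this

end FPt

end

end Groth.Agent.ResProp.EF.K270
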