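import Groth.Agent.ResProp.EF.K270.LocFin
import Groth.Agent.ResProp.EF.K345.N1c

/-!
# Node N1 of `K412/Defs.lean`
-/

set_option autoImplicit false
universe u

namespace Groth.Agent.ResProp.EF.K270

open Groth.Agent.Grpsch.AffGrpd Groth.Agent.ResProp.EF.K412

/-- **Node N1** -/
theorem n1 : N1.{u} := by
  intro Lb A B _ _ _ _ G hA hft hs hsft st
  classical
  obtain ⟨n, c, g, h1, hgen, -, -, hcomp⟩ := exists_frame_one G hs hsft ∅
  have hG : K345.Gens G.s c := by
    refine hgen _ (fun a => Subring.subset_closure (Or.inl ⟨a, rfl⟩)) (fun j => Subring.subset_closure (Or.inr ⟨j, rfl⟩))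
  obtain ⟨m₁, hp⟩ := hG.exists_pres 0 h1
  obtain ⟨S, hS⟩ := hft.out
  let x : Fin S.card → A := fun l => (S.equivFin.symm l : A)
  have hx : Algebra.adjoin Lb (Set.range x) = ⊤ := by
    have : Set.range x = (S : Set A) := by
      ext a
      constructor
      · rintro ⟨l, rfl⟩
        exact (S.equivFin.symm l).2
      · intro ha
        exact ⟨S.equivFin ⟨a, ha⟩, by simp [x]⟩
    rw [this, hS]
  obtain ⟨m₂, ht⟩ := hG.exists_coeff 0 h1 (fun l => G.t (x l))
  obtain ⟨m₃, hi⟩ := hG.exists_coeff 0 h1 (fun z : Fin (n + 1) × Fin (n + 1) => G.i (g z.1 z.2))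
  let m := max m₁ (max m₂ m₃)
  obtain ⟨tx, htx⟩ := ht m (le_trans (le_max_left _ _) (le_max_right _ _))
  obtain ⟨ig, hig⟩ := hi m (le_trans (le_max_right _ _) (le_max_right _ _))
  exact ⟨{
    n := n + 1
    m := m
    c := c
    i0 := 0
    c_i0 := h1
    g := g
    comp_c := fun α β h j => hcomp α β h j
    gen := fun F F' h h' => hG.gen F F' h h'
    pres := hp m (le_max_left _ _)
    q := S.card
    x := x
    x_gen := hx
    tx := tx
    t_x := htx
    ig := fun i j => ig (i, j)
    i_g := fun i j => hig (i, j)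
    st := st }⟩

end Groth.Agent.ResProp.EF.K270
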